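import Cfsg.Agent.CNStruct.SimpleFacts
import Cfsg.Agent.CITGroups.Basic
import Cfsg.Agent.OddLocal.CNQuotient
import Cfsg.Prelude.Def_LieExceptional

/-!
A CN-group with a normal simple subgroup in which centralisers of involutions are `2`-groups is almost equal
to it.
-/

set_option autoImplicit false
set_option linter.unusedSectionVars false
set_option linter.style.haveILetI false

namespace CfsgLib.CNStruct

open Subgroup

universe u

variable {H : Type u} [Group H] [Finite H]

/-- An element of a `2`-group fixing a nontrivial element of odd order of `S` is trivial. -/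
theorem eq_one_of_two_commute (hCN : Cfsg.IsCNGroup H) {S : Subgroup H} [S.Normal]
    (hS : CfsgLib.CIT.IsCIT S) (h2S : 2 ∣ Nat.card S) {y a : H} {n : ℕ} (hy : y ^ 2 ^ n = 1) (haS : a ∈ S)
    (ha1 : a ≠ 1) (hao : Odd (orderOf a)) (hya : Commute y a) : y = 1 := by
  haveI : Fact (Nat.Prime 2) := ⟨Nat.prime_two⟩
  -- no involution commutes with `a`
  have key : ∀ t : H, orderOf t = 2 → ¬ Commute t a := by
    intro t ht hta
    -- an involution of `S` commuting with `t`
    obtain ⟨P, hP⟩ := (IsPGroup.of_card (n := 1) (by rw [Nat.card_zpowers, ht, pow_one]) :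
      IsPGroup 2 (zpowers t)).exists_le_sylow
    obtain ⟨z, hz⟩ := exists_prime_orderOf_dvd_card' 2 h2S
    rw [← orderOf_coe] at hz
    obtain ⟨P0, hP0⟩ := (IsPGroup.of_card (n := 1) (by rw [Nat.card_zpowers, hz, pow_one]) :
      IsPGroup 2 (zpowers (z : H))).exists_le_sylow
    obtain ⟨g, hg⟩ := MulAction.exists_smul_eq H P0 P
    have hgz : g * z * g⁻¹ ∈ (P : Subgroup H) := by
      rw [← hg]
      exact ⟨z, hP0 (mem_zpowers _), rfl⟩
    haveI := P.2.isNilpotent
    have hne : S.subgroupOf (P : Subgroup H) ≠ ⊥ := fun e => by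
      have hm : (⟨g * z * g⁻¹, hgz⟩ : (P : Subgroup H)) ∈ S.subgroupOf (P : Subgroup H) :=
        (‹S.Normal›.conj_mem _ z.2 g)
      rw [e, mem_bot] at hm
      have h1 : g * z * g⁻¹ = 1 := congrArg Subtype.val hm
      rw [conj_eq_one_iff] at h1
      rw [h1, orderOf_one] at hz
      omega
    obtain ⟨u, hu, hu1⟩ := (Subgroup.bot_or_exists_ne_one _).resolve_left
      (CfsgLib.PGroupBasic.inf_center_ne_bot _ hne)
    obtain ⟨i, hi⟩ := P.2 u
    have hut : Commute ((u : (P : Subgroup H)) : H) t :=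
      (congrArg Subtype.val (mem_center_iff.1 hu.2 ⟨t, hP (mem_zpowers t)⟩)).symm
    have hui : ((u : (P : Subgroup H)) : H) ^ 2 ^ i = 1 := congrArg Subtype.val hi
    have hua : Commute ((u : (P : Subgroup H)) : H) a := CfsgLib.CN.commute_in
      (hCN t (fun e => by rw [e, orderOf_one] at ht; omega))
      (mem_centralizer_singleton_iff.2 hut.eq) (mem_centralizer_singleton_iff.2 hta.symm.eq)
      (((Nat.coprime_two_left.2 hao).pow_left i).coprime_dvd_left (orderOf_dvd_of_pow_eq_one hui))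
    -- a power of `u` is an involution of `S`
    have hu2 : (2 : ℕ) ∣ orderOf ((u : (P : Subgroup H)) : H) := by
      obtain ⟨j, -, hj⟩ := (Nat.dvd_prime_pow Nat.prime_two).1 (orderOf_dvd_of_pow_eq_one hui)
      rcases Nat.eq_zero_or_pos j with rfl | hj0
      · exact absurd (Subtype.ext (orderOf_eq_one_iff.1 (by simpa using hj))) hu1
      · rw [hj]; exact dvd_pow_self 2 hj0.ne'
    set v := ((u : (P : Subgroup H)) : H) ^ (orderOf ((u : (P : Subgroup H)) : H) / 2) with hv
    have hv2 : orderOf v = 2 := orderOf_pow_orderOf_div (orderOf_pos _).ne' hu2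
    have hvS : v ∈ S := S.pow_mem hu.1 _
    have hC := hS ⟨v, hvS⟩ (by rw [← orderOf_coe]; exact hv2)
    obtain ⟨e, he⟩ := hC ⟨⟨a, haS⟩, mem_centralizer_singleton_iff.2
      (Subtype.ext (hua.pow_left _).symm.eq)⟩
    have he' : a ^ 2 ^ e = 1 := congrArg (fun w : centralizer ({(⟨v, hvS⟩ : S)} : Set S) => ((w : S) : H)) he
    exact ha1 (orderOf_eq_one_iff.1 (Nat.Coprime.eq_one_of_dvd ((Nat.coprime_two_right.2 hao).pow_right e)
      (orderOf_dvd_of_pow_eq_one he')))
  by_contra hy1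
  obtain ⟨j, -, hj⟩ := (Nat.dvd_prime_pow Nat.prime_two).1 (orderOf_dvd_of_pow_eq_one hy)
  have hj0 : j ≠ 0 := fun e => hy1 (orderOf_eq_one_iff.1 (by rw [hj, e, pow_zero]))
  exact key _ (orderOf_pow_orderOf_div (orderOf_pos y).ne' (hj ▸ dvd_pow_self 2 hj0)) (hya.pow_left _)

set_option maxHeartbeats 1000000 in
theorem index_dvd_of_good (hCN : Cfsg.IsCNGroup H) {S : Subgroup H} [S.Normal] (hS : CfsgLib.CIT.IsCIT S)
    (h2S : 2 ∣ Nat.card S) {k : ℕ} (hg : Good S k) : S.index ∣ 2 ^ k := by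
  classical
  haveI : Fact (Nat.Prime 2) := ⟨Nat.prime_two⟩
  obtain ⟨A, i, j, hA, hAodd, hAc, hj, hjN, hijk, hrigid⟩ := hg
  set A' := A.map S.subtype with hA'
  have hA'S : A' ≤ S := map_subtype_le A
  set M := normalizer (A' : Set H)
  set f := QuotientGroup.mk' S
  have hcA : Nat.card A' = 2 ^ i + 1 := by
    rw [← Nat.card_congr (A.equivMapOfInjective _ S.subtype_injective).toEquiv, hAc]
  have hAo : ∀ a ∈ A', Odd (orderOf a) := fun a ha => by
    refine Odd.of_dvd_nat ?_ (A'.orderOf_dvd_natCard ha)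
    rw [hcA, ← hAc]; exact hAodd
  -- `M` covers the quotient
  have hsurj : Function.Surjective (f.comp M.subtype) := by
    intro y
    obtain ⟨g, rfl⟩ := QuotientGroup.mk'_surjective S y
    obtain ⟨s, hs⟩ := hrigid (MulAut.conjNormal (H := S) g)
    refine ⟨⟨(s : H)⁻¹ * g, ?_⟩, ?_⟩
    · show (s : H)⁻¹ * g ∈ M
      rw [mem_normalizer_iff_map_conj_eq, hA', Subgroup.map_map]
      have h' := congrArg (Subgroup.map S.subtype) hs
      rw [Subgroup.map_map, Subgroup.map_map] at h'
      have e1 : A.map (((MulAut.conj (s : H)⁻¹).toMonoidHom).comp (S.subtype.comp (MulAut.conjNormal (H := S) g).toMonoidHom))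
          = A.map (((MulAut.conj (s : H)⁻¹).toMonoidHom).comp (S.subtype.comp (MulAut.conj s).toMonoidHom)) := by
        have := congrArg (Subgroup.map (MulAut.conj (s : H)⁻¹).toMonoidHom) h'
        rwa [Subgroup.map_map, Subgroup.map_map] at this
      convert e1 using 2
      · ext x; simp [MulAut.conjNormal_apply, mul_assoc]
      · ext x; simp [mul_assoc]
    · show f ((s : H)⁻¹ * g) = f g
      rw [map_mul, show f ((s : H)⁻¹) = 1 from (QuotientGroup.eq_one_iff _).2 (S.inv_mem s.2), one_mul]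
  -- involutions of `S` in `M` invert `A`
  have hinv : ∀ u : H, orderOf u = 2 → u ∈ S → u ∈ M → ∀ a ∈ A', u * a * u⁻¹ = a⁻¹ := by
    intro u hu huS huM a ha
    have hu2 : u ^ 2 ^ 1 = 1 := by rw [pow_one, ← hu, pow_orderOf_eq_one]
    have huu : u * u = 1 := by rw [← pow_two]; rwa [pow_one] at hu2
    have hua : u * a * u⁻¹ ∈ A' := (mem_normalizer_iff.1 huM a).1 ha
    haveI := hA
    have hAc' : ∀ b ∈ A', ∀ c ∈ A', Commute b c := by
      rintro - ⟨b, hb, rfl⟩ - ⟨c, hc, rfl⟩
      exact congrArg S.subtype (congrArg Subtype.val (hA.is_comm.comm (⟨b, hb⟩ : A) ⟨c, hc⟩))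
    by_contra hne
    have hm : a * (u * a * u⁻¹) ∈ A' := A'.mul_mem ha hua
    have hm1 : a * (u * a * u⁻¹) ≠ 1 := fun e => hne (eq_inv_of_mul_eq_one_right e)
    have hc : Commute u (a * (u * a * u⁻¹)) := by
      show u * (a * (u * a * u⁻¹)) = a * (u * a * u⁻¹) * u
      calc u * (a * (u * a * u⁻¹)) = (u * a * u⁻¹) * ((u * u) * a * (u * u)⁻¹) * u := by group
        _ = (u * a * u⁻¹) * a * u := by rw [huu]; group
        _ = a * (u * a * u⁻¹) * u := by rw [(hAc' _ hua a ha).eq]
    have h1 := eq_one_of_two_commute hCN hS h2S hu2 (hA'S hm) hm1 (hAo _ hm) hc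
    rw [h1, orderOf_one] at hu
    omega
  have hA1 : A' ≠ ⊥ := fun e => by
    rw [e, Subgroup.card_bot] at hcA
    have := Nat.two_pow_pos i
    omega
  obtain ⟨a0, ha0, ha01⟩ := (Subgroup.bot_or_exists_ne_one A').resolve_left hA1
  -- the `2`-part
  set L := S.subgroupOf M
  have hLcard : Nat.card L = Nat.card (normalizer (A : Set S)) := by
    have e : (normalizer (A : Set S)).map S.subtype = S ⊓ M := by
      ext x
      constructor
      · rintro ⟨y, hy, rfl⟩
        refine ⟨y.2, mem_normalizer_iff.2 fun b => ⟨?_, ?_⟩⟩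
        · rintro ⟨c, hc, rfl⟩
          exact ⟨_, (mem_normalizer_iff.1 hy c).1 hc, rfl⟩
        · rintro ⟨c, hc, hce⟩
          have hb : b = S.subtype (y⁻¹ * c * y) := by
            rw [map_mul, map_mul, map_inv, hce]; group
          rw [hb]
          exact ⟨_, by simpa [mul_assoc] using (mem_normalizer_iff.1 hy (y⁻¹ * c * y)).2 (by simpa [mul_assoc] using hc), rfl⟩
      · rintro ⟨hxS, hxM⟩
        refine ⟨⟨x, hxS⟩, mem_normalizer_iff.2 fun c => ?_, rfl⟩
        have := mem_normalizer_iff.1 hxM (c : H)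
        constructor
        · intro hc
          obtain ⟨d, hd, hde⟩ := this.1 ⟨c, hc, rfl⟩
          rwa [show d = ⟨x, hxS⟩ * c * (⟨x, hxS⟩ : S)⁻¹ from Subtype.ext hde] at hd
        · intro hc
          obtain ⟨d, hd, hde⟩ := this.2 ⟨_, hc, rfl⟩
          rwa [show d = c from Subtype.ext hde] at hd
    show Nat.card (S.subgroupOf M) = _
    rw [← inf_subgroupOf_right S M, Nat.card_congr (subgroupOfEquivOfLe inf_le_right).toEquiv, ← e,
      ← Nat.card_congr (Subgroup.equivMapOfInjective _ _ S.subtype_injective).toEquiv]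
  have hker : (f.comp M.subtype).ker = L := by
    ext x
    exact QuotientGroup.eq_one_iff (x : H)
  have hMcard : Nat.card M = Nat.card L * S.index := by
    rw [← Subgroup.card_mul_index (f.comp M.subtype).ker, Subgroup.index_ker, hker,
      MonoidHom.range_eq_top.2 hsurj, Subgroup.card_top, Subgroup.index_eq_card]
  obtain ⟨v, r, hr, hvr⟩ := Nat.exists_eq_pow_mul_and_not_dvd (Subgroup.index_ne_zero_of_finite (H := S)) 2
    (by norm_num)
  have hvk : v ≤ k := by
    have hd : 2 ^ (j + v) ∣ Nat.card M := by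
      rw [hMcard, hLcard, pow_add, hvr]
      exact Nat.mul_dvd_mul hjN (dvd_mul_right _ _)
    obtain ⟨P, hP⟩ := Sylow.exists_subgroup_card_pow_prime 2 hd
    have hle : Nat.card P ≤ Nat.card {a : A' // a ≠ 1} := by
      refine Nat.card_le_card_of_injective (fun p : P => (⟨⟨((p : M) : H) * a0 * ((p : M) : H)⁻¹,
        (mem_normalizer_iff.1 (p : M).2 a0).1 ha0⟩, fun e => ha01 (conj_eq_one_iff.1 (congrArg Subtype.val e))⟩ :
        {a : A' // a ≠ 1})) fun p p' e => ?_
      have e' : ((p : M) : H) * a0 * ((p : M) : H)⁻¹ = ((p' : M) : H) * a0 * ((p' : M) : H)⁻¹ :=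
        congrArg (fun w : {a : A' // a ≠ 1} => ((w : A') : H)) e
      set q : P := p'⁻¹ * p
      have hq : Commute ((q : M) : H) a0 := by
        show ((q : M) : H) * a0 = a0 * ((q : M) : H)
        calc ((q : M) : H) * a0 = ((p' : M) : H)⁻¹ * (((p : M) : H) * a0 * ((p : M) : H)⁻¹) * ((p : M) : H) := by
              simp [q, mul_assoc]
          _ = a0 * ((q : M) : H) := by rw [e']; simp [q, mul_assoc]
      have hqo : ((q : M) : H) ^ 2 ^ (j + v) = 1 := by
        have := pow_card_eq_one' (x := q)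
        rw [hP] at this
        exact congrArg (fun w : P => ((w : M) : H)) this
      have h1 := eq_one_of_two_commute hCN hS h2S hqo (hA'S ha0) ha01 (hAo a0 ha0) hq
      have : q = 1 := Subtype.ext (Subtype.ext h1)
      exact (inv_mul_eq_one.1 this).symm
    have hsub : Nat.card {a : A' // a ≠ 1} = 2 ^ i := by
      haveI := Fintype.ofFinite A'
      rw [Nat.card_eq_fintype_card, Fintype.card_subtype_compl, Fintype.card_subtype_eq,
        ← Nat.card_eq_fintype_card, hcA, Nat.add_sub_cancel]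
    rw [hP, hsub] at hle
    have := (Nat.pow_le_pow_iff_right (by norm_num : 1 < 2)).1 hle
    omega
  -- the odd part
  suffices r = 1 by
    rw [hvr, this, mul_one]
    exact pow_dvd_pow 2 hvk
  by_contra hr1
  obtain ⟨l, hl, hlr⟩ := Nat.exists_prime_and_dvd hr1
  haveI := Fact.mk hl
  have hl2 : l ≠ 2 := fun e => hr (e ▸ hlr)
  obtain ⟨Q⟩ : Nonempty (Sylow 2 L) := inferInstance
  haveI : L.Normal := inferInstance
  have hfr := Sylow.normalizer_sup_eq_top Q
  set NQ := normalizer (((Q : Subgroup L).map L.subtype : Subgroup M) : Set M)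
  have hsurj' : Function.Surjective ((f.comp M.subtype).comp NQ.subtype) := by
    intro y
    obtain ⟨x, rfl⟩ := hsurj y
    have hx : x ∈ NQ ⊔ L := by rw [hfr]; trivial
    obtain ⟨a, ha, b, hb, rfl⟩ := Subgroup.mem_sup_of_normal_right.1 hx
    refine ⟨⟨a, ha⟩, ?_⟩
    show (f.comp M.subtype) a = (f.comp M.subtype) (a * b)
    rw [map_mul, show (f.comp M.subtype) b = 1 from MonoidHom.mem_ker.1 (hker ▸ hb), mul_one]
  have hlS : l ∣ Nat.card (H ⧸ S) := by
    rw [← Subgroup.index_eq_card, hvr]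
    exact hlr.mul_left _
  obtain ⟨y, hy⟩ := exists_prime_orderOf_dvd_card' (G := H ⧸ S) l hlS
  obtain ⟨⟨⟨m, hmM⟩, hmQ⟩, hm⟩ := hsurj' y
  change f m = y at hm
  -- an element of `l`-power order
  obtain ⟨b, c, hc, hbc⟩ := Nat.exists_eq_pow_mul_and_not_dvd (orderOf_pos m).ne' l hl.ne_one
  set x := m ^ c with hx
  have hxl : x ^ l ^ b = 1 := by rw [hx, ← pow_mul, mul_comm, ← hbc, pow_orderOf_eq_one]
  have hxS : x ∉ S := fun h => by
    have : y ^ c = 1 := by rw [← hm, ← map_pow]; exact (QuotientGroup.eq_one_iff _).2 h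
    exact hc (hy ▸ orderOf_dvd_of_pow_eq_one this)
  have hxM : x ∈ M := M.pow_mem hmM c
  have hxQ : (⟨x, hxM⟩ : M) ∈ NQ := by
    have := NQ.pow_mem hmQ c
    exact this
  -- an involution of `Q`
  have hQ1 : (Q : Subgroup L) ≠ ⊥ := Q.ne_bot_of_dvd_card (by
    rw [hLcard]; exact (dvd_pow_self 2 (by omega : j ≠ 0)).trans hjN)
  obtain ⟨u0, hu0⟩ := exists_prime_orderOf_dvd_card' (G := (Q : Subgroup L)) 2
    ((Q.2.card_eq_or_dvd).resolve_left fun e => hQ1 (Subgroup.card_eq_one.1 e))
  set u : H := (((u0 : L) : M) : H) with hu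
  have huo : orderOf u = 2 := by rw [hu, orderOf_coe, orderOf_coe, orderOf_coe, hu0]
  have huS : u ∈ S := (u0 : L).2
  have huM : u ∈ M := ((u0 : L) : M).2
  -- `x` fixes `u`
  obtain ⟨w, hwQ, hw⟩ := (mem_normalizer_iff.1 hxQ ((u0 : L) : M)).1 ⟨u0, u0.2, rfl⟩
  have hwe : (((w : L) : M) : H) = x * u * x⁻¹ := congrArg Subtype.val hw
  have hwo : orderOf (((w : L) : M) : H) = 2 := by
    rw [hwe, show orderOf (x * u * x⁻¹) = orderOf u from
      orderOf_injective (MulAut.conj x).toMonoidHom (MulEquiv.injective _) u, huo]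
  have hxu : Commute x u := by
    have e1 := hinv u huo huS huM a0 ha0
    have e2 := hinv _ hwo w.2 (w : M).2 a0 ha0
    have hq : Commute ((((u0 : L)⁻¹ * w : L) : M) : H) a0 := by
      show (u⁻¹ * (((w : L) : M) : H)) * a0 = a0 * (u⁻¹ * (((w : L) : M) : H))
      calc (u⁻¹ * (((w : L) : M) : H)) * a0
          = u⁻¹ * ((((w : L) : M) : H) * a0 * ((((w : L) : M) : H))⁻¹) * (((w : L) : M) : H) := by group
        _ = u⁻¹ * (u * a0 * u⁻¹) * (((w : L) : M) : H) := by rw [e2, e1]
        _ = _ := by group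
    obtain ⟨n, hn⟩ := Q.2 (⟨(u0 : L)⁻¹ * w, Q.1.mul_mem (Q.1.inv_mem u0.2) hwQ⟩ : (Q : Subgroup L))
    have h1 := eq_one_of_two_commute hCN hS h2S (y := ((((u0 : L)⁻¹ * w : L) : M) : H)) (n := n)
      (congrArg (fun z : (Q : Subgroup L) => (((z : L) : M) : H)) hn) (hA'S ha0) ha01 (hAo a0 ha0) hq
    have h2 : u = (((w : L) : M) : H) := inv_mul_eq_one.1 (by simpa [hu] using h1)
    show x * u = u * x
    conv_rhs => rw [h2, hwe]
    group
  -- `x` fixes an element of `A`
  haveI := Fintype.ofFinite A'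
  let π : Equiv.Perm {a : A' // a ≠ 1} :=
    { toFun := fun a => ⟨⟨x * ((a : A') : H) * x⁻¹, (mem_normalizer_iff.1 hxM _).1 (a : A').2⟩,
        fun e => a.2 (Subtype.ext (conj_eq_one_iff.1 (congrArg Subtype.val e)))⟩
      invFun := fun a => ⟨⟨x⁻¹ * ((a : A') : H) * (x⁻¹)⁻¹, (mem_normalizer_iff.1 (M.inv_mem hxM) _).1 (a : A').2⟩,
        fun e => a.2 (Subtype.ext (conj_eq_one_iff.1 (congrArg Subtype.val e)))⟩
      left_inv := fun a => Subtype.ext (Subtype.ext (by simp [mul_assoc]))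
      right_inv := fun a => Subtype.ext (Subtype.ext (by simp [mul_assoc])) }
  have hπ : ∀ (n : ℕ) a, (((π ^ n) a : A') : H) = x ^ n * ((a : A') : H) * (x ^ n)⁻¹ := by
    intro n
    induction n with
    | zero => intro a; simp
    | succ n ih =>
      intro a
      rw [pow_succ', Equiv.Perm.mul_apply]
      show x * (((π ^ n) a : A') : H) * x⁻¹ = _
      rw [ih, pow_succ']; simp [mul_assoc]
  obtain ⟨a, ha⟩ := Equiv.Perm.exists_fixed_point_of_prime (p := l) (n := b) (σ := π) (by
      rw [Fintype.card_subtype_compl, Fintype.card_subtype_eq, ← Nat.card_eq_fintype_card, hcA, Nat.add_sub_cancel]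
      exact fun h => hl2 ((Nat.prime_dvd_prime_iff_eq hl Nat.prime_two).1 (hl.dvd_of_dvd_pow h)))
    (Equiv.ext fun a => Subtype.ext (Subtype.ext (by rw [hπ, hxl]; simp)))
  have hxa : Commute x ((a : A') : H) := by
    have e : x * ((a : A') : H) * x⁻¹ = a := congrArg (fun z : {a : A' // a ≠ 1} => ((z : A') : H)) ha
    show x * _ = _ * x
    calc x * ((a : A') : H) = x * ((a : A') : H) * x⁻¹ * x := by group
      _ = _ := by rw [e]
  have hau : Commute ((a : A') : H) u := CfsgLib.CN.commute_in (hCN x fun e => hxS (e ▸ S.one_mem))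
    (mem_centralizer_singleton_iff.2 hxa.symm.eq) (mem_centralizer_singleton_iff.2 hxu.symm.eq)
    (by rw [huo]; exact Nat.coprime_two_right.2 (hAo _ (a : A').2))
  have h1 := eq_one_of_two_commute hCN hS h2S (y := u) (n := 1) (by rw [pow_one, ← huo, pow_orderOf_eq_one])
    (hA'S (a : A').2) (fun e => a.2 (Subtype.ext e)) (hAo _ (a : A').2) hau.symm
  rw [h1, orderOf_one] at huo
  omega

end CfsgLib.CNStruct
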