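import Cfsg.Agent.CNStruct.Radical
import Cfsg.Agent.CNStruct.AlmostSimple
import Cfsg.Agent.CITGroups.Final
import Cfsg.Agent.CITGroups.CNReduce
import Cfsg.Agent.CITGraph.Models
import Cfsg.Agent.OddLocal.CNMinimal
import Cfsg.Agent.Suzuki.Solubilizer
import Cfsg.Prelude.Def_Exceptional

/-!
The structure of the non-solvable CN-groups.
-/

set_option autoImplicit false
set_option linter.unusedSectionVars false
set_option linter.style.haveILetI false

namespace CfsgLib.CNStruct

open Subgroup
open scoped IsMulCommutative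

universe u

variable {G : Type u} [Group G] [Finite G]

/-- The action of a quotient on an abelian normal subgroup centralised by the kernel. -/
noncomputable def quotModRep {S : Type*} [Group S] {Q : Subgroup G} [Q.Normal] (e : G ⧸ Q ≃* S) (A : Subgroup G)
    [A.Normal] [IsMulCommutative A] (hQA : Q ≤ centralizer (A : Set G)) : S →* Module.End ℤ (Additive A) :=
  { toFun := fun s =>
      (MonoidHom.toAdditive (((QuotientGroup.lift Q (MulAut.conjNormal : G →* MulAut A) (fun q hq => by
        rw [MonoidHom.mem_ker]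
        ext a
        rw [MulAut.conjNormal_apply, MulAut.one_apply,
          ← mem_centralizer_iff.1 (hQA hq) a a.2, mul_inv_cancel_right])) (e.symm s)).toMonoidHom)).toIntLinearMap
    map_one' := by
      refine LinearMap.ext fun a => ?_
      rw [map_one, map_one]
      rfl
    map_mul' := fun s t => by
      refine LinearMap.ext fun a => ?_
      rw [map_mul, map_mul]
      rfl }

theorem quotModRep_apply {S : Type*} [Group S] {Q : Subgroup G} [Q.Normal] (e : G ⧸ Q ≃* S) (A : Subgroup G)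
    [A.Normal] [IsMulCommutative A] (hQA : Q ≤ centralizer (A : Set G)) (g : G) (a : A) :
    ((Additive.toMul (quotModRep e A hQA (e (QuotientGroup.mk g)) (Additive.ofMul a)) : A) : G) =
      g * a * g⁻¹ := by
  show ((QuotientGroup.lift Q (MulAut.conjNormal : G →* MulAut A) _ (e.symm (e (QuotientGroup.mk g))) a : A) : G) = _
  rw [MulEquiv.symm_apply_apply]
  exact MulAut.conjNormal_apply g a

theorem exists_odd_lift {N : Subgroup G} [N.Normal] {x : G ⧸ N} (hx : orderOf x = 3) (hN : IsPGroup 2 N) :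
    ∃ g : G, g ^ 3 = 1 ∧ g ∉ N := by
  obtain ⟨g0, rfl⟩ := QuotientGroup.mk_surjective x
  obtain ⟨a, ha⟩ := exists_odd_pow g0
  have hne : (QuotientGroup.mk g0 : G ⧸ N) ≠ 1 := fun e => by rw [e, orderOf_one] at hx; omega
  refine ⟨g0 ^ 2 ^ a, ?_, fun h => pow_two_pow_ne_one (by rw [hx]; decide) hne a (by
    rw [← QuotientGroup.mk_pow]; exact (QuotientGroup.eq_one_iff _).2 h)⟩
  have hm : (g0 ^ 2 ^ a) ^ 3 ∈ N := by
    rw [← QuotientGroup.eq_one_iff, QuotientGroup.mk_pow, QuotientGroup.mk_pow, ← pow_mul, mul_comm, pow_mul,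
      ← hx, pow_orderOf_eq_one, one_pow]
  obtain ⟨n, hn⟩ := hN ⟨_, hm⟩
  have hn' : ((g0 ^ 2 ^ a) ^ 3) ^ 2 ^ n = 1 := congrArg Subtype.val hn
  exact orderOf_eq_one_iff.1 (Nat.Coprime.eq_one_of_dvd
    ((Nat.coprime_two_right.2 (ha.of_dvd_nat (orderOf_pow_dvd 3))).pow_right n) (orderOf_dvd_of_pow_eq_one hn'))

/-- No two independent commuting elements of order three modulo the kernel. -/
theorem no_pair {N : Subgroup G} [N.Normal] (hN2 : IsPGroup 2 N) (hN : N ≠ ⊥)
    (hfpf : ∀ g : G, Odd (orderOf g) → g ∉ N → ∀ n ∈ N, g * n * g⁻¹ = n → n = 1) {a b : G ⧸ N}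
    (hab : Commute a b) (ha3 : a ^ 3 = 1) (hb3 : b ^ 3 = 1) (ha : a ≠ 1) (hb : b ∉ zpowers a) : False := by
  haveI : Fact (Nat.Prime 3) := ⟨Nat.prime_three⟩
  haveI : Fact (Nat.Prime 2) := ⟨Nat.prime_two⟩
  set π := QuotientGroup.mk' N
  obtain ⟨g0, rfl⟩ := QuotientGroup.mk'_surjective N a
  obtain ⟨h0, rfl⟩ := QuotientGroup.mk'_surjective N b
  obtain ⟨e1, he1⟩ := exists_odd_pow g0
  set g := g0 ^ 2 ^ e1
  have hgo : Odd (orderOf (π g0)) := by
    rw [orderOf_eq_prime ha3 ha]; decide
  obtain ⟨i, hi⟩ := exists_pow_eq_self_of_coprime (x := π g0) (n := 2 ^ e1)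
    ((Nat.coprime_two_left.2 hgo).pow_left e1)
  rw [← map_pow π g0] at hi
  change π g ^ i = π g0 at hi
  have hgh : Commute (π g) (π h0) := by
    show Commute (π (g0 ^ 2 ^ e1)) (π h0)
    rw [map_pow]
    exact hab.pow_left _
  obtain ⟨k, hk⟩ := IsPGroup.iff_card.1 hN2
  obtain ⟨c, hc1, hc2⟩ := CfsgLib.Coprime.exists_commute_mem_coset (zpowers g) N le_normalizer_of_normal
    (by rw [Nat.card_zpowers, hk]; exact (Nat.coprime_two_right.2 he1).pow_right k) h0 (fun x hx => by
      rw [← QuotientGroup.ker_mk' N, MonoidHom.mem_ker]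
      obtain ⟨j, rfl⟩ := mem_zpowers_iff.1 hx
      show π (h0⁻¹ * (g ^ j * h0 * (g ^ j)⁻¹)) = 1
      rw [map_mul, map_mul, map_mul, map_inv, map_inv, map_zpow, (hgh.zpow_left j).eq, mul_inv_cancel_right,
        inv_mul_cancel])
  have hπc : π c = π h0 := by
    have e : π (h0⁻¹ * c) = 1 := (QuotientGroup.eq_one_iff _).2 hc2
    rw [map_mul, map_inv, inv_mul_eq_one] at e
    exact e.symm
  obtain ⟨e2, he2⟩ := exists_odd_pow c
  set c' := c ^ 2 ^ e2
  have hb1 : π h0 ≠ 1 := fun e => hb (e ▸ one_mem _)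
  obtain ⟨j, hj⟩ := exists_pow_eq_self_of_coprime (x := π h0) (n := 2 ^ e2)
    ((Nat.coprime_two_left.2 (by rw [orderOf_eq_prime hb3 hb1]; decide)).pow_left e2)
  have hc' : π c' = π h0 ^ 2 ^ e2 := by
    show π (c ^ 2 ^ e2) = _
    rw [map_pow, hπc]
  rw [← hc'] at hj
  have hgc : Commute g c' := Commute.pow_right (hc1 g (mem_zpowers g)) _
  set P := closure ({g, c'} : Set G)
  have hPc : IsMulCommutative P := by
    refine ⟨⟨fun x y => Subtype.ext ?_⟩⟩
    have hle : P ≤ centralizer (P : Set G) := by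
      rw [centralizer_closure]
      refine (Subgroup.closure_le _).2 ?_
      intro x hx
      refine mem_centralizer_iff.2 fun y hy => ?_
      rcases hx with rfl | rfl <;> rcases hy with rfl | rfl
      · rfl
      · exact hgc.symm.eq
      · exact hgc.eq
      · rfl
    exact (mem_centralizer_iff.1 (hle x.2) y y.2).symm
  have hPo : ∀ x ∈ P, x ^ (orderOf g * orderOf c') = 1 := by
    intro x hx
    induction hx using Subgroup.closure_induction with
    | mem y hy =>
      rcases hy with rfl | rfl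
      · rw [pow_mul, pow_orderOf_eq_one, one_pow]
      · rw [mul_comm, pow_mul, pow_orderOf_eq_one, one_pow]
    | one => simp
    | mul y z hy hz hy' hz' =>
      have : Commute y z := congrArg Subtype.val (hPc.is_comm.comm (⟨y, hy⟩ : P) ⟨z, hz⟩)
      rw [this.mul_pow, hy', hz', mul_one]
    | inv y _ hy' => rw [inv_pow, hy', inv_one]
  have hodd : ∀ x : P, Odd (orderOf (x : G)) := fun x =>
    (he1.mul he2).of_dvd_nat (orderOf_dvd_of_pow_eq_one (hPo _ x.2))
  have hPodd : Odd (Nat.card P) := by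
    by_contra h
    obtain ⟨x, hx⟩ := exists_prime_orderOf_dvd_card' (G := P) 2 (even_iff_two_dvd.1 (Nat.not_odd_iff_even.1 h))
    have := hodd x
    rw [orderOf_coe, hx] at this
    exact absurd this (by decide)
  haveI : Nontrivial N := (nontrivial_iff_ne_bot N).2 hN
  have hCN : Cfsg.IsCNGroup P := fun x _ => inferInstance
  let φ : P →* MulAut N := (MulAut.conjNormal (H := N)).comp P.subtype
  have hφ : CfsgLib.Frobenius.IsFpf φ := by
    intro e he n hn
    refine Subtype.ext (hfpf (e : G) (hodd e) ?_ n n.2 ?_)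
    · intro heN
      obtain ⟨t, ht⟩ := hN2 ⟨_, heN⟩
      exact pow_two_pow_ne_one (hodd e) (fun e' => he (Subtype.ext e')) t (congrArg Subtype.val ht)
    · have := congrArg Subtype.val hn
      simpa [φ, MulAut.conjNormal_apply] using this
  haveI := CfsgLib.CN.isCyclic_of_fpf hPodd hCN hφ
  set R := P.map π
  haveI : IsCyclic R := isCyclic_of_surjective (π.subgroupMap P) (π.subgroupMap_surjective P)
  have haR : π g0 ∈ R := hi ▸ R.pow_mem ⟨g, subset_closure (Set.mem_insert g _), rfl⟩ i
  have hbR : π h0 ∈ R := hj ▸ R.pow_mem ⟨c', subset_closure (Set.mem_insert_of_mem g rfl), rfl⟩ j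
  classical
  haveI := Fintype.ofFinite R
  have hle := IsCyclic.card_pow_eq_one_le (α := R) (n := 3) (by norm_num)
  have hz : (zpowers (π g0)).subgroupOf R ≤ ⊤ := le_top
  have hc3 : Nat.card ((zpowers (π g0)).subgroupOf R) = 3 := by
    rw [Nat.card_congr (subgroupOfEquivOfLe (zpowers_le.2 haR)).toEquiv, Nat.card_zpowers, orderOf_eq_prime ha3 ha]
  have hsub : insert (⟨π h0, hbR⟩ : R) (((zpowers (π g0)).subgroupOf R : Set R).toFinset) ⊆
      Finset.univ.filter fun z => z ^ 3 = 1 := by
    intro z hz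
    simp only [Finset.mem_insert, Set.mem_toFinset, SetLike.mem_coe] at hz
    simp only [Finset.mem_filter, Finset.mem_univ, true_and]
    rcases hz with rfl | hz
    · exact Subtype.ext hb3
    · obtain ⟨k, hk⟩ := mem_zpowers_iff.1 (show (z : G ⧸ N) ∈ zpowers (π g0) from hz)
      refine Subtype.ext ?_
      show (z : G ⧸ N) ^ 3 = 1
      rw [← hk, ← zpow_natCast, ← zpow_mul, mul_comm, zpow_mul, zpow_natCast, ha3, one_zpow]
  have h4 := (Finset.card_le_card hsub).trans hle
  rw [Finset.card_insert_of_notMem (by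
      rw [Set.mem_toFinset]
      exact fun h => hb h), Set.toFinset_card, ← Nat.card_eq_fintype_card, SetLike.coe_sort_coe, hc3] at h4
  omega

/-- A prime field Fermat or Mersenne, at least seven, is impossible. -/
theorem no_module_psl {N : Subgroup G} [N.Normal] (hN2 : IsPGroup 2 N) (hN : N ≠ ⊥)
    (hfpf : ∀ g : G, Odd (orderOf g) → g ∉ N → ∀ n ∈ N, g * n * g⁻¹ = n → n = 1) {F : Type} [Field F] [Fintype F]
    [IsSimpleGroup (Matrix.ProjectiveSpecialLinearGroup (Fin 2) F)] (hp : (Fintype.card F).Prime)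
    (h8 : Fintype.card F % 8 = 1 ∨ Fintype.card F % 8 = 7)
    (e : G ⧸ N ≃* Matrix.ProjectiveSpecialLinearGroup (Fin 2) F) : False := by
  haveI : Fact (Nat.Prime 2) := ⟨Nat.prime_two⟩
  haveI := hN2.isNilpotent
  obtain ⟨M, hM, hM1, hMN, hMc, hmin, p, hp', hexp, -⟩ :=
    CfsgLib.Solvable.exists_normal_elementary_le hN (isSolvable_of_nilpotent hN2.isNilpotent)
  haveI := hM
  haveI := hMc
  have hne : M.subgroupOf N ≠ ⊥ := fun e => hM1 (by
    rw [← map_subgroupOf_eq_of_le hMN, e, Subgroup.map_bot])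
  have hZ : M ⊓ centralizer (N : Set G) ≠ ⊥ := by
    obtain ⟨z, hz, hz1⟩ := (Subgroup.bot_or_exists_ne_one _).resolve_left (CfsgLib.PGroupBasic.inf_center_ne_bot _ hne)
    intro e
    have hm : (z : G) ∈ M ⊓ centralizer (N : Set G) := ⟨hz.1, mem_centralizer_iff.2 fun n hn =>
      congrArg Subtype.val (mem_center_iff.1 hz.2 ⟨n, hn⟩)⟩
    exact hz1 (Subtype.ext (mem_bot.1 (e ▸ hm)))
  have hMC : M ⊓ centralizer (N : Set G) = M := (hmin _ inferInstance inf_le_left).resolve_left hZ
  have hNM : N ≤ centralizer (M : Set G) := fun n hn => mem_centralizer_iff.2 fun x hx =>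
    (mem_centralizer_iff.1 ((le_of_eq hMC.symm) hx).2 n hn).symm
  haveI : Nontrivial (Additive M) := (nontrivial_iff_ne_bot M).2 hM1
  have h2 : ∀ v : Additive M, v + v = 0 := fun v => by
    have hx := hexp _ v.toMul.2
    obtain ⟨n, hn⟩ := hN2 ⟨_, hMN v.toMul.2⟩
    have hn' : (v.toMul : G) ^ 2 ^ n = 1 := congrArg Subtype.val hn
    apply Additive.toMul.injective
    apply Subtype.ext
    show (v.toMul : G) * v.toMul = 1
    by_cases hp2 : p = 2
    · rw [← pow_two, ← hp2]; exact hx
    · rw [show (v.toMul : G) = 1 from orderOf_eq_one_iff.1 (Nat.Coprime.eq_one_of_dvd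
        ((((Nat.coprime_primes hp' Nat.prime_two).2 hp2).pow_right n).coprime_dvd_left (orderOf_dvd_of_pow_eq_one hx))
        (orderOf_dvd_of_pow_eq_one hn')), one_mul]
  refine psl_no_fpf hp h8 h2 (quotModRep e M hNM) fun s hso hs1 v hv => ?_
  obtain ⟨g, hg⟩ : ∃ g : G, e (QuotientGroup.mk g) = s := by
    obtain ⟨c, hc⟩ := QuotientGroup.mk_surjective (e.symm s)
    exact ⟨c, by rw [hc, MulEquiv.apply_symm_apply]⟩
  obtain ⟨a, ha⟩ := exists_odd_pow g
  have hgN : g ^ 2 ^ a ∉ N := fun hh => pow_two_pow_ne_one hso hs1 a (by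
    rw [← hg, ← map_pow, ← QuotientGroup.mk_pow, (QuotientGroup.eq_one_iff _).2 hh, map_one])
  have hfix : Commute g (v.toMul : G) := by
    have e1 := quotModRep_apply e M hNM g v.toMul
    rw [hg, ofMul_toMul, hv] at e1
    show g * _ = _ * g
    calc g * (v.toMul : G) = g * v.toMul * g⁻¹ * g := by group
      _ = _ := by rw [← e1]
  refine Additive.toMul.injective (Subtype.ext (hfpf _ ha hgN _ (hMN v.toMul.2) ?_))
  rw [(hfix.pow_left _).eq, mul_inv_cancel_right]

/-- The possibilities for the simple section. -/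
inductive Shape (S : Type*) [Group S] : Prop
  | nine (F : Type) [Field F] [Fintype F] (hF : Fintype.card F = 9)
      (e : S ≃* Matrix.ProjectiveSpecialLinearGroup (Fin 2) F)
  | even (F : Type) [Field F] [Fintype F] (n : ℕ) (hn : 2 ≤ n) (hF : Fintype.card F = 2 ^ n)
      (e : S ≃* Matrix.ProjectiveSpecialLinearGroup (Fin 2) F)
  | big (F : Type) [Field F] [Fintype F] (hp : (Fintype.card F).Prime) (h7 : 7 ≤ Fintype.card F)
      (h8 : Fintype.card F % 8 = 1 ∨ Fintype.card F % 8 = 7)
      (e : S ≃* Matrix.ProjectiveSpecialLinearGroup (Fin 2) F)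
  | plane (F : Type) [Field F] [Fintype F] (hF : Fintype.card F = 4)
      (e : S ≃* Matrix.ProjectiveSpecialLinearGroup (Fin 3) F)
  | suzuki (F : Type) [Field F] [Fintype F] [DecidableEq F] (m : ℕ) (h : CfsgLib.Suzuki.IsSzField F m)
      (e : S ≃* CfsgLib.Suzuki.SzG F m)

theorem shape {S : Type u} [Group S] [Finite S] [IsSimpleGroup S] (hns : ¬ Group.IsSolvable S)
    (hCN : Cfsg.IsCNGroup S) : Shape S := by
  classical
  haveI : Fact (Nat.Prime 3) := ⟨Nat.prime_three⟩
  rcases CfsgLib.CIT.simple_cit (CfsgLib.CIT.isCIT_of_simple_cn hns hCN) hns with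
    ⟨F, hf, hfi, hF, ⟨e⟩⟩ | ⟨F, hf, hfi, hF, ⟨e⟩⟩ | ⟨F, hf, hfi, m, hm, hF, ⟨e⟩⟩
  · letI := hf; letI := hfi
    haveI : IsSimpleGroup (Matrix.ProjectiveSpecialLinearGroup (Fin 2) F) := e.isSimpleGroup_congr.1 inferInstance
    have hns' : ¬ Group.IsSolvable (Matrix.ProjectiveSpecialLinearGroup (Fin 2) F) := fun h => hns (by
      haveI := h
      exact Group.isSolvable_of_isSolvable_injective (f := e.toMonoidHom) e.injective)
    have hc := CfsgLib.Linear.Small.card_psl_two (F := F) rfl
    have h23 : Fintype.card F ≠ 2 ∧ Fintype.card F ≠ 3 := by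
      refine ⟨fun hq => hns' ?_, fun hq => hns' ?_⟩
      · rw [hq] at hc
        norm_num [-Nat.card_eq_fintype_card] at hc
        exfalso
        obtain ⟨x, hx⟩ := exists_prime_orderOf_dvd_card' (G := Matrix.ProjectiveSpecialLinearGroup (Fin 2) F) 3
          (by rw [show Nat.card (Matrix.ProjectiveSpecialLinearGroup (Fin 2) F) = 6 by omega]; norm_num)
        have hi := Subgroup.card_mul_index (zpowers x)
        rw [Nat.card_zpowers, hx, show Nat.card (Matrix.ProjectiveSpecialLinearGroup (Fin 2) F) = 6 by omega] at hi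
        haveI := Subgroup.normal_of_index_eq_two (H := zpowers x) (by omega)
        rcases (inferInstance : (zpowers x).Normal).eq_bot_or_eq_top with h | h
        · rw [zpowers_eq_bot] at h
          rw [h, orderOf_one] at hx; omega
        · rw [h, Subgroup.index_top] at hi; omega
      · obtain ⟨e'⟩ := CfsgLib.Linear.Small.nonempty_psl_two_three hq
        haveI : IsSimpleGroup (alternatingGroup (Fin 4)) := e'.isSimpleGroup_congr.1 inferInstance
        have h4 : Nat.card (Fin 4) = 4 := by rw [Nat.card_eq_fintype_card, Fintype.card_fin]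
        have hV := alternatingGroup.kleinFour_card_of_card_eq_four h4
        rcases (alternatingGroup.normal_kleinFour h4).eq_bot_or_eq_top with h | h
        · rw [h, Subgroup.card_bot] at hV
          omega
        · exfalso
          rw [h, Subgroup.card_top, Nat.card_congr e'.symm.toEquiv] at hV
          rw [hq] at hc
          norm_num [-Nat.card_eq_fintype_card] at hc
          omega
    rcases hF with h9 | ⟨n, hn⟩ | ⟨hp, k, hk⟩
    · exact .nine F h9 e
    · refine .even F n ?_ hn e
      rcases n with _ | _ | n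
      · rw [pow_zero] at hn; exact absurd hn (Fintype.one_lt_card (α := F)).ne'
      · exact absurd (by rw [hn]; rfl) h23.1
      · omega
    · by_cases h5 : Fintype.card F = 5
      · haveI : Fact (Nat.Prime 2) := ⟨Nat.prime_two⟩
        haveI := Fintype.ofFinite (GaloisField 2 2)
        have hK : Fintype.card (GaloisField 2 2) = 4 := by
          rw [← Nat.card_eq_fintype_card, GaloisField.card 2 2 (by norm_num)]; rfl
        obtain ⟨e5⟩ := CfsgLib.Linear.Small.nonempty_psl_two_five h5
        haveI : IsSimpleGroup (Matrix.ProjectiveSpecialLinearGroup (Fin 2) (GaloisField 2 2)) :=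
          CfsgLib.Linear.isSimpleGroup_PSL (ι := Fin 2) (F := GaloisField 2 2)
            (Or.inr (CfsgLib.Linear.Small.exists_sq_ne_one (by omega)))
        haveI : Fact (Nat.Prime 5) := ⟨by norm_num⟩
        have hc4 := CfsgLib.Linear.Small.card_psl_two hK
        norm_num [-Nat.card_eq_fintype_card] at hc4
        obtain ⟨P⟩ : Nonempty (Sylow 5 (Matrix.ProjectiveSpecialLinearGroup (Fin 2) (GaloisField 2 2))) := Sylow.nonempty
        obtain ⟨e4⟩ := CfsgLib.Dickson.OrderSixty.nonempty_mulEquiv (by omega) P fun hn => by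
          have hP := CfsgLib.Dickson.OrderSixty.card_eq_five (by omega) P
          rcases hn.eq_bot_or_eq_top with h1 | h1
          · rw [h1, Subgroup.card_bot] at hP; omega
          · rw [h1, Subgroup.card_top] at hP; omega
        exact .even (GaloisField 2 2) 2 le_rfl hK ((e.trans e5).trans e4.symm)
      · have h7 : 7 ≤ Fintype.card F ∨ Fintype.card F = 2 := by
          have := hp.two_le
          by_contra h
          push Not at h
          have : Fintype.card F = 4 ∨ Fintype.card F = 6 := by omega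
          rcases this with h' | h' <;> rw [h'] at hp <;> norm_num at hp
        rcases h7 with h7 | h2
        · refine .big F hp h7 ?_ e
          have h3k : 3 ≤ k := by
            by_contra hlt
            have : 2 ^ k ≤ 2 ^ 2 := Nat.pow_le_pow_right two_pos (by omega)
            omega
          obtain ⟨k', rfl⟩ : ∃ k', k = k' + 3 := ⟨k - 3, by omega⟩
          rw [pow_add] at hk
          norm_num at hk
          omega
        · exact absurd h2 h23.1
  · exact .plane F hF e
  · exact .suzuki F m (CfsgLib.Suzuki.isSzField_of_card hm hF)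
      (e.trans (CfsgLib.Suzuki.lieEquiv (CfsgLib.Suzuki.isSzField_of_card hm hF)).symm)

/-- Each shape gives the data for the almost simple step. -/
theorem shape_good {S : Type u} [Group S] [Finite S] [IsSimpleGroup S] (h : Shape S) :
    (Good S 1 ∧ ∃ (F : Type) (_ : Field F) (_ : Fintype F), Fintype.card F = 9 ∧
      Nonempty (S ≃* Matrix.ProjectiveSpecialLinearGroup (Fin 2) F)) ∨ Good S 0 := by
  haveI : Fact (Nat.Prime 3) := ⟨Nat.prime_three⟩
  cases h with
  | nine F hF e => exact Or.inl ⟨(good_nine hF).of_equiv e, F, inferInstance, inferInstance, hF, ⟨e⟩⟩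
  | even F n hn hF e =>
    right
    haveI := CfsgLib.CITGraph.charP_two (n := n) (by omega) hF
    refine (good_of_conj_three (a := (QuotientGroup.mk (CfsgLib.SL2Pair.up 1 * CfsgLib.Higman.w₁) :
      Matrix.ProjectiveSpecialLinearGroup (Fin 2) F)) ?_ fun b c hb hc => conj_three_even b c hb hc).of_equiv e
    refine orderOf_eq_prime ?_ fun e0 => ?_
    · rw [← QuotientGroup.mk_pow, mk_eq_one_iff]
      refine ⟨1, one_pow 2, ?_⟩
      rw [pow_three, Matrix.SpecialLinearGroup.coe_mul, Matrix.SpecialLinearGroup.coe_mul,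
        Matrix.SpecialLinearGroup.coe_mul, CfsgLib.Higman.w₁_coe, CfsgLib.SL2Pair.up_coe]
      ext u v
      fin_cases u <;> fin_cases v <;> simp [CfsgLib.Higman.w₁_coe, CfsgLib.SL2Pair.up_coe, Matrix.SpecialLinearGroup.coe_mul,
        Matrix.mul_apply, Fin.sum_univ_two, CharTwo.add_self_eq_zero, CharTwo.neg_eq]
    · obtain ⟨r, -, hr⟩ := (mk_eq_one_iff _).1 e0
      have := congrFun (congrFun hr 1) 0
      simp [Matrix.SpecialLinearGroup.coe_mul, CfsgLib.Higman.w₁_coe, CfsgLib.SL2Pair.up_coe,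
        Matrix.mul_apply, Fin.sum_univ_two] at this
  | big F hp h7 h8 e =>
    right
    have h3 : (3 : F) ≠ 0 := fun h0 => by
      obtain ⟨p, hpc⟩ := CharP.exists F
      obtain ⟨d, hp', hd⟩ := FiniteField.card F p
      have hpq : p = Fintype.card F := (Nat.prime_dvd_prime_iff_eq hp' hp).1 (hd ▸ dvd_pow_self p d.pos.ne')
      have : p ∣ 3 := (CharP.cast_eq_zero_iff F p 3).1 (by exact_mod_cast h0)
      have := Nat.le_of_dvd (by norm_num) this
      omega
    refine (good_of_conj_three (a := (QuotientGroup.mk comp3 : Matrix.ProjectiveSpecialLinearGroup (Fin 2) F)) ?_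
      fun b c hb hc => conj_three_odd (by omega) h3 b c hb hc).of_equiv e
    refine orderOf_eq_prime ?_ fun e0 => ?_
    · rw [← QuotientGroup.mk_pow, mk_eq_one_iff]
      refine ⟨1, one_pow 2, ?_⟩
      rw [pow_three, Matrix.SpecialLinearGroup.coe_mul, Matrix.SpecialLinearGroup.coe_mul]
      ext u v
      fin_cases u <;> fin_cases v <;> simp [comp3, Matrix.mul_apply, Fin.sum_univ_two]
    · obtain ⟨r, -, hr⟩ := (mk_eq_one_iff _).1 e0
      have := congrFun (congrFun hr 1) 0
      simp [comp3] at this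
  | plane F hF e =>
    right
    obtain ⟨a, -, -, ha3, -, ha1, -⟩ := psl_three_four_pair hF
    exact (good_of_conj_three (orderOf_eq_prime ha3 ha1) fun b c hb hc => conj_three_P3 hF b c hb hc).of_equiv e
  | suzuki F m h e => exact Or.inr ((good_sz h).of_equiv e)

/-- The structure theorem. -/
theorem main (hns : ¬ Group.IsSolvable G) (hCN : Cfsg.IsCNGroup G) :
    (IsSimpleGroup G ∧ ¬ IsMulCommutative G) ∨
    (∃ (N : Subgroup G), N.Normal ∧ N.index = 2 ∧ ∃ (F : Type) (_ : Field F) (_ : Fintype F), Fintype.card F = 9 ∧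
        Nonempty (N ≃* Matrix.ProjectiveSpecialLinearGroup (Fin 2) F)) ∨
    (∃ (N : Subgroup G) (_ : N.Normal), N ≠ ⊥ ∧ IsPGroup 2 N ∧ IsMulCommutative N ∧ (∀ x ∈ N, x * x = 1) ∧
        ((∃ (F : Type) (_ : Field F) (_ : Fintype F), CharP F 2 ∧ 4 ≤ Fintype.card F ∧
            Nonempty (G ⧸ N ≃* Matrix.ProjectiveSpecialLinearGroup (Fin 2) F)) ∨ Cfsg.IsSuzuki (G ⧸ N))) := by
  classical
  haveI : Fact (Nat.Prime 3) := ⟨Nat.prime_three⟩
  obtain ⟨N, hN, hN2, hQCN, hQns, hrad, hfpf⟩ := exists_two_radical hns hCN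
  haveI := hN
  obtain ⟨S, hS, hSs, hSns, hSCN⟩ := exists_simple_socle hQns hQCN hrad
  haveI := hS
  haveI := hSs
  have hcit := CfsgLib.CIT.isCIT_of_simple_cn hSns hSCN
  have h2S : 2 ∣ Nat.card S := by
    by_contra h
    exact hSns (CfsgLib.OddEnd.odd_solvable _ (Nat.odd_iff.2 (by omega)))
  have hshape := shape hSns hSCN
  -- the index of the socle
  have hind : S = ⊤ ∨ (S.index = 2 ∧ ∃ (F : Type) (_ : Field F) (_ : Fintype F), Fintype.card F = 9 ∧
      Nonempty (S ≃* Matrix.ProjectiveSpecialLinearGroup (Fin 2) F)) := by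
    rcases shape_good hshape with ⟨hg, hF⟩ | hg
    · have := index_dvd_of_good hQCN hcit h2S hg
      rw [pow_one] at this
      rcases (Nat.dvd_prime Nat.prime_two).1 this with h1 | h1
      · exact Or.inl (index_eq_one.1 h1)
      · exact Or.inr ⟨h1, hF⟩
    · have := index_dvd_of_good hQCN hcit h2S hg
      rw [pow_zero, Nat.dvd_one] at this
      exact Or.inl (index_eq_one.1 this)
  by_cases hN1 : N = ⊥
  · subst hN1
    let e : G ≃* G ⧸ (⊥ : Subgroup G) := QuotientGroup.quotientBot.symm
    rcases hind with hS' | ⟨hi, F, hf, hfi, hF, ⟨eS⟩⟩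
    · left
      haveI : IsSimpleGroup G := ((e.trans topEquiv.symm).trans (MulEquiv.subgroupCongr hS'.symm)).isSimpleGroup_congr.2 inferInstance
      exact ⟨inferInstance, fun hc => hns (Group.isSolvable_of_comm fun a b => hc.is_comm.comm a b)⟩
    · refine Or.inr (Or.inl ⟨S.comap e.toMonoidHom, inferInstance, ?_, F, hf, hfi, hF, ⟨?_⟩⟩)
      · rw [Subgroup.index_comap_of_surjective _ (MulEquiv.surjective e), hi]
      · refine MulEquiv.trans ?_ eS
        exact (Subgroup.equivMapOfInjective _ e.toMonoidHom e.injective).trans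
          (MulEquiv.subgroupCongr (Subgroup.map_comap_eq_self_of_surjective e.surjective S))
  · right; right
    have hf := hfpf hN1
    have noPair : ∀ {P : Type} [Group P] (_ : S ≃* P),
        (∃ a b : P, Commute a b ∧ a ^ 3 = 1 ∧ b ^ 3 = 1 ∧ a ≠ 1 ∧ b ∉ zpowers a) → False := by
      intro P _ eP ⟨a, b, hab, ha3, hb3, ha1, hb⟩
      let f : P →* G ⧸ N := S.subtype.comp eP.symm.toMonoidHom
      have hfi : Function.Injective f := S.subtype_injective.comp eP.symm.injective
      refine no_pair hN2 hN1 hf (a := f a) (b := f b) (hab.map f) (by rw [← map_pow, ha3, map_one])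
        (by rw [← map_pow, hb3, map_one]) (fun e => ha1 (hfi (e.trans (map_one f).symm))) fun h => hb ?_
      obtain ⟨k, hk⟩ := mem_zpowers_iff.1 h
      exact ⟨k, hfi (by rw [map_zpow]; exact hk)⟩
    have hS' : S = ⊤ := hind.resolve_right fun ⟨_, F, hfF, hfi, hF, ⟨eS⟩⟩ => noPair eS (psl_nine_pair hF)
    subst hS'
    let eQ : G ⧸ N ≃* (⊤ : Subgroup (G ⧸ N)) := topEquiv.symm
    haveI : IsSimpleGroup (G ⧸ N) := eQ.isSimpleGroup_congr.2 inferInstance
    cases hshape with
    | nine F hF e => exact (noPair e (psl_nine_pair hF)).elim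
    | plane F hF e => exact (noPair e (psl_three_four_pair hF)).elim
    | big F hp h7 h8 e =>
      haveI : IsSimpleGroup (Matrix.ProjectiveSpecialLinearGroup (Fin 2) F) := (eQ.trans e).isSimpleGroup_congr.1 inferInstance
      exact (no_module_psl hN2 hN1 hf hp h8 (eQ.trans e)).elim
    | even F n hn hF e =>
      haveI := CfsgLib.CITGraph.charP_two (n := n) (by omega) hF
      let eP := (CfsgLib.SL2Char2.slEquivPSL (F := F)).symm
      obtain ⟨a₀, ha0, ha1⟩ : ∃ a₀ : F, a₀ ≠ 0 ∧ a₀ ≠ 1 := by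
        obtain ⟨x, hx0, hx1⟩ := CfsgLib.Linear.Small.exists_sq_ne_one (F := F) (by
          rw [hF]; exact le_trans (by norm_num) (Nat.pow_le_pow_right two_pos hn))
        exact ⟨x, hx0, fun e => hx1 (by rw [e, one_pow])⟩
      have hx3 : ∃ q : G ⧸ N, orderOf q = 3 := by
        rcases shape_good (Shape.even F n hn hF e) with h | h <;>
        · obtain ⟨x, hx⟩ := exists_prime_orderOf_dvd_card' (G := Matrix.ProjectiveSpecialLinearGroup (Fin 2) F) 3 (by
            rw [CfsgLib.CITGraph.card_psl_two_pow (n := n) (by omega) hF]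
            have h4 : (2 ^ 2) ^ n % 3 = 1 := by simp [Nat.pow_mod]
            have h5 : 3 ∣ (2 ^ n) ^ 2 - 1 := by
              rw [← pow_mul, mul_comm, pow_mul]
              omega
            exact dvd_mul_of_dvd_right h5 _)
          exact ⟨(eQ.trans e).symm x, by rw [MulEquiv.orderOf_eq, hx]⟩
      obtain ⟨q, hq⟩ := hx3
      obtain ⟨x, hx, hxN⟩ := exists_odd_lift hq hN2
      have hel := CfsgLib.Higman.elementary_of_fpf ha0 ha1 (Nat.card N) G N rfl hN2 ((eQ.trans e).trans eP) x hx hxN
        (hf x (Odd.of_dvd_nat (by decide : Odd 3) (orderOf_dvd_of_pow_eq_one hx)) hxN)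
      refine ⟨N, hN, hN1, hN2, hel.1, fun y hy => by rw [← pow_two]; exact hel.2 y hy, Or.inl
        ⟨F, inferInstance, inferInstance, inferInstance, ?_, ⟨eQ.trans e⟩⟩⟩
      rw [hF]; exact le_trans (by norm_num) (Nat.pow_le_pow_right two_pos hn)
    | suzuki F m h e =>
      obtain ⟨hc, h2⟩ := sz_elementary h (Nat.card N) G N rfl hN2 (eQ.trans e) hf
      refine ⟨N, hN, hN1, hN2, hc, h2, Or.inr ⟨inferInstance, m, h.pos, ?_⟩⟩
      rw [Nat.card_congr (eQ.trans e).toEquiv, CfsgLib.Suzuki.card_G h, h.card]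

end CfsgLib.CNStruct
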