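import Cfsg.Agent.OddLocal.CNQuotient
import Cfsg.Agent.OddLocal.CNMaxNilpotent
import Cfsg.Agent.OddLocal.CNMinimal
import Cfsg.Agent.ZStar.RankOneApps
import Cfsg.Agent.ZStar.Final
import Cfsg.Agent.OddEnd.FourteenFinal
import Cfsg.Agent.Comp.Basic
import Cfsg.Agent.CITGroups.Basic
import Cfsg.Prelude.Def_LieExceptional

/-!
Non-solvable CN-groups: the solvable radical is a `2`-group on which the elements of odd order outside act
without fixed points; modulo it there is a unique minimal normal subgroup, which is simple.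
-/

set_option autoImplicit false
set_option linter.unusedSectionVars false
set_option linter.style.haveILetI false

namespace CfsgLib.CNStruct

open Subgroup

universe u

variable {G : Type u} [Group G] [Finite G]

theorem isSolvable_of_nilpotent {K : Subgroup G} (h : Group.IsNilpotent K) : Group.IsSolvable K := by
  haveI := h
  infer_instance

/-- A group with nilpotent normal subgroup of odd index is solvable. -/
theorem isSolvable_of_odd_index {K : Subgroup G} [K.Normal] (hK : Group.IsSolvable K) (h : Odd K.index) :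
    Group.IsSolvable G := by
  haveI := hK
  haveI : Group.IsSolvable (G ⧸ K) := CfsgLib.OddEnd.odd_solvable _ (by
    rw [← index_eq_card]; exact h)
  exact Group.isSolvable_of_ker_le_range K.subtype (QuotientGroup.mk' K) (by simp)

/-- Elements of coprime order in a nilpotent centraliser commute. -/
theorem commute_of_cn (hCN : Cfsg.IsCNGroup G) {z a b : G} (hz : z ≠ 1) (ha : Commute a z) (hb : Commute b z)
    (h : (orderOf a).Coprime (orderOf b)) : Commute a b :=
  CfsgLib.CN.commute_in (hCN z hz) (mem_centralizer_singleton_iff.2 ha.eq)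
    (mem_centralizer_singleton_iff.2 hb.eq) h

theorem coprime_two_odd {p : ℕ} (hp : p.Prime) (hp2 : p ≠ 2) (a b : ℕ) : (2 ^ a).Coprime (p ^ b) :=
  ((Nat.coprime_primes Nat.prime_two hp).2 (Ne.symm hp2)).pow a b

/-- A non-solvable CN-group has no nontrivial normal `p`-subgroup for odd `p`. -/
theorem eq_bot_of_odd (hns : ¬ Group.IsSolvable G) (hCN : Cfsg.IsCNGroup G) {M : Subgroup G} [M.Normal]
    {p : ℕ} [Fact p.Prime] (hp2 : p ≠ 2) (hM : IsPGroup p M) : M = ⊥ := by
  by_contra hM1
  haveI : Fact (Nat.Prime 2) := ⟨Nat.prime_two⟩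
  have hp : p.Prime := Fact.out
  obtain ⟨β, hβ⟩ := IsPGroup.iff_card.1 hM
  have hcop : ∀ (t : G) (S : Subgroup G), IsPGroup 2 S → t ∈ S → ∀ x ∈ M,
      (orderOf t).Coprime (orderOf x) := by
    intro t S hS ht x hx
    obtain ⟨α, hα⟩ := IsPGroup.iff_card.1 hS
    exact ((coprime_two_odd hp hp2 α β).coprime_dvd_left (hα ▸ S.orderOf_dvd_natCard ht)).coprime_dvd_right
      (hβ ▸ M.orderOf_dvd_natCard hx)
  haveI := hM.isNilpotent
  obtain ⟨z, hzM, hz1, hzc⟩ := CfsgLib.CN.exists_central (hM.isNilpotent) hM1
  -- no involution centralises a nontrivial element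
  have hfree : ∀ t : G, orderOf t = 2 → ∀ x ∈ M, x ≠ 1 → ¬ Commute t x := by
    intro t ht x hx hx1 htx
    have ht2 : IsPGroup 2 (zpowers t) := IsPGroup.of_card (n := 1) (by rw [Nat.card_zpowers, ht, pow_one])
    -- a Sylow subgroup centralising `x`
    obtain ⟨T0, hT0⟩ := (show IsPGroup 2 ((zpowers t).subgroupOf (centralizer ({x} : Set G))) from
      ht2.comap_subtype).exists_le_sylow
    set R := (T0 : Subgroup (centralizer ({x} : Set G))).map (centralizer ({x} : Set G)).subtype with hR
    have hRC : R ≤ centralizer ({x} : Set G) := map_subtype_le _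
    have htR : t ∈ R := ⟨⟨t, mem_centralizer_singleton_iff.2 htx.eq⟩, hT0 (mem_zpowers t), rfl⟩
    obtain ⟨T, hRT⟩ := (T0.2.map (centralizer ({x} : Set G)).subtype).exists_le_sylow
    have hTC : (T : Subgroup G) ≤ centralizer ({x} : Set G) := by
      by_contra hne
      have hlt : R < T := lt_of_le_of_ne hRT fun e => hne (e ▸ hRC)
      haveI := T.2.isNilpotent
      have hlt' : R.subgroupOf T < ⊤ := lt_top_iff_ne_top.2 fun e => hlt.ne
        (le_antisymm hRT (subgroupOf_eq_top.1 e))
      obtain ⟨u, hu, hun⟩ := SetLike.exists_of_lt (Group.normalizerCondition_of_isNilpotent _ hlt')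
      set T1 : Subgroup (T : Subgroup G) := Subgroup.normalizer ((R.subgroupOf T : Subgroup (T : Subgroup G)) : Set (T : Subgroup G))
      haveI : Group.IsNilpotent T1 := (T.2.to_subgroup T1).isNilpotent
      haveI hn : ((R.subgroupOf T).subgroupOf T1).Normal := Subgroup.normal_in_normalizer
      have hne1 : (R.subgroupOf T).subgroupOf T1 ≠ ⊥ := fun e => by
        have hm : (⟨⟨t, hRT htR⟩, le_normalizer (show t ∈ R from htR)⟩ : T1) ∈ (R.subgroupOf T).subgroupOf T1 :=
          htR
        rw [e, mem_bot] at hm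
        have : t = 1 := congrArg (fun w : T1 => ((w : (T : Subgroup G)) : G)) hm
        rw [this, orderOf_one] at ht
        omega
      obtain ⟨s, hs, hs1⟩ := (Subgroup.bot_or_exists_ne_one _).resolve_left
        (CfsgLib.PGroupBasic.inf_center_ne_bot _ hne1)
      have hsu : Commute (u : G) ((s : (T : Subgroup G)) : G) :=
        congrArg (fun w : T1 => ((w : (T : Subgroup G)) : G)) (mem_center_iff.1 hs.2 ⟨u, hu⟩)
      have hsR : ((s : (T : Subgroup G)) : G) ∈ R := hs.1
      have hux : Commute (u : G) x := commute_of_cn hCN (fun e => hs1 (Subtype.ext (Subtype.ext e))) hsu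
        (mem_centralizer_singleton_iff.1 (hRC hsR)).symm (hcop _ T T.2 u.2 x hx)
      refine hun ?_
      -- `u` is in `R` by maximality
      have hmax : ((T : Subgroup G) ⊓ centralizer ({x} : Set G)).subgroupOf (centralizer ({x} : Set G)) =
          (T0 : Subgroup (centralizer ({x} : Set G))) :=
        T0.is_maximal' (T.2.to_le inf_le_left).comap_subtype fun y hy =>
          ⟨hRT ⟨y, hy, rfl⟩, y.2⟩
      have : (⟨u, mem_centralizer_singleton_iff.2 hux.eq⟩ : centralizer ({x} : Set G)) ∈
          (T0 : Subgroup (centralizer ({x} : Set G))) := by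
        rw [← hmax]; exact ⟨u.2, mem_centralizer_singleton_iff.2 hux.eq⟩
      exact ⟨_, this, rfl⟩
    -- so a Sylow subgroup centralises `z`
    have hTz : ∀ a ∈ (T : Subgroup G), Commute a z := fun a ha =>
      commute_of_cn hCN hx1 (mem_centralizer_singleton_iff.1 (hTC ha))
        (hzc x hx).symm (hcop a T T.2 ha z hzM)
    set K := normalClosure ((T : Subgroup G) : Set G)
    have hKz : K ≤ centralizer ({z} : Set G) := by
      refine (Subgroup.closure_le _).2 ?_
      intro y hy
      obtain ⟨a, ha, hay⟩ := Group.mem_conjugatesOfSet_iff.1 hy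
      obtain ⟨g, rfl⟩ := isConj_iff.1 hay
      have hgx : g * x * g⁻¹ ∈ M := ‹M.Normal›.conj_mem x hx g
      have h1 : Commute (g * a * g⁻¹) (g * x * g⁻¹) :=
        (show Commute a x from mem_centralizer_singleton_iff.1 (hTC ha)).map (MulAut.conj g).toMonoidHom
      refine mem_centralizer_singleton_iff.2 (Commute.eq ?_)
      exact commute_of_cn hCN (fun e => hx1 (by simpa using e)) h1 (hzc _ hgx).symm (by
        rw [show orderOf (g * a * g⁻¹) = orderOf a from
          orderOf_injective (MulAut.conj g).toMonoidHom (MulEquiv.injective _) a]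
        exact hcop a T T.2 ha z hzM)
    have hKi : Odd K.index := by
      refine Nat.odd_iff.2 (Nat.two_dvd_ne_zero.1 fun h => T.not_dvd_index (h.trans (index_dvd_of_le ?_)))
      exact le_normalClosure
    exact hns (isSolvable_of_odd_index (K := K)
      (isSolvable_of_nilpotent (CfsgLib.CN.nilpotent_of_le (hCN z hz1) hKz)) hKi)
  -- involutions invert the centre, so commuting ones are equal
  have hinv : ∀ t : G, orderOf t = 2 → t * z * t⁻¹ = z⁻¹ := by
    intro t ht
    have htt : t * t = 1 := by rw [← pow_two, ← ht, pow_orderOf_eq_one]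
    have htM : t * z * t⁻¹ ∈ M := ‹M.Normal›.conj_mem z hzM t
    by_contra hne
    refine hfree t ht _ (M.mul_mem hzM htM) (fun e => hne (eq_inv_of_mul_eq_one_right e)) ?_
    show t * (z * (t * z * t⁻¹)) = z * (t * z * t⁻¹) * t
    calc t * (z * (t * z * t⁻¹)) = (t * z * t⁻¹) * (t * t * z * (t * t)⁻¹) * t := by group
      _ = (t * z * t⁻¹) * z * t := by rw [htt]; group
      _ = z * (t * z * t⁻¹) * t := by rw [(hzc _ htM).eq]
  have hrank : ∀ E : Subgroup G, ¬ IsKleinFour E := by
    classical
    intro E hE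
    obtain ⟨a, b, ha, hb, hab⟩ : ∃ a b : E, a ≠ 1 ∧ b ≠ 1 ∧ a ≠ b := by
      haveI := Fintype.ofFinite E
      have h4 : Fintype.card E = 4 := by rw [← Nat.card_eq_fintype_card, hE.card_four]
      obtain ⟨a, ha⟩ := Fintype.exists_ne_of_one_lt_card (by omega) (1 : E)
      obtain ⟨b, hb⟩ : ∃ b : E, b ∉ ({1, a} : Finset E) := by
        by_contra hcon
        push Not at hcon
        have : Fintype.card E ≤ 2 := by
          rw [← Finset.card_univ]
          exact (Finset.card_le_card fun z _ => hcon z).trans Finset.card_le_two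
        omega
      simp only [Finset.mem_insert, Finset.mem_singleton, not_or] at hb
      exact ⟨a, b, ha, hb.1, fun e => hb.2 e.symm⟩
    have h2 : ∀ c : E, c ≠ 1 → orderOf (c : G) = 2 := fun c hc => by
      rw [orderOf_coe]
      refine orderOf_eq_prime ?_ hc
      rw [← hE.exponent_two]; exact Monoid.pow_exponent_eq_one c
    have hab2 : orderOf ((a * b : E) : G) = 2 := h2 _ fun e => hab (by
      have : b⁻¹ = b := by
        have := h2 b hb
        exact Subtype.ext (inv_eq_of_mul_eq_one_left (by rw [← pow_two, ← this, pow_orderOf_eq_one]; ))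
      rw [eq_inv_of_mul_eq_one_left e, this])
    refine hfree _ hab2 z hzM hz1 ?_
    show ((a * b : E) : G) * z = z * ((a * b : E) : G)
    have e1 := hinv _ (h2 a ha)
    have e2 := hinv _ (h2 b hb)
    rw [Subgroup.coe_mul]
    calc (a : G) * b * z = (a : G) * ((b : G) * z * (b : G)⁻¹) * b := by group
      _ = ((a : G) * z * (a : G)⁻¹)⁻¹ * a * b := by rw [e2]; group
      _ = z * ((a : G) * b) := by rw [e1, inv_inv, mul_assoc]
  have heven : Even (Nat.card G) := by
    by_contra h
    exact hns (CfsgLib.OddEnd.odd_solvable G (Nat.not_even_iff_odd.1 h))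
  obtain ⟨t, ht, N, hN, hNodd, hNc⟩ := CfsgLib.ZStar.exists_central_modulo heven hrank
  haveI := hN
  haveI : Group.IsSolvable N := CfsgLib.OddEnd.odd_solvable _ hNodd
  have hcopN : (Nat.card (zpowers t)).Coprime (Nat.card N) := by
    rw [Nat.card_zpowers, ht]
    exact Nat.coprime_two_left.2 hNodd
  have hcover : ∀ g : G, ∃ c ∈ centralizer ({t} : Set G), g⁻¹ * c ∈ N := by
    intro g
    obtain ⟨c, hc, hcN⟩ := CfsgLib.Coprime.exists_commute_mem_coset' (zpowers t) N le_normalizer_of_normal
      hcopN g (fun y hy => by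
        obtain ⟨i, rfl⟩ := mem_zpowers_iff.1 hy
        rw [← QuotientGroup.ker_mk' N, MonoidHom.mem_ker]
        set π := QuotientGroup.mk' N
        have h1 : Commute (π t) (π g) := by
          have := (QuotientGroup.eq_one_iff _).2 (hNc g)
          change π (t * g * t⁻¹ * g⁻¹) = 1 at this
          rw [map_mul, map_mul, map_mul, map_inv, map_inv] at this
          show π t * π g = π g * π t
          calc π t * π g = π t * π g * (π t)⁻¹ * (π g)⁻¹ * π g * π t := by group
            _ = _ := by rw [this, one_mul]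
        show π (g⁻¹ * (t ^ i * g * (t ^ i)⁻¹)) = 1
        rw [map_mul, map_mul, map_mul, map_inv, map_inv, map_zpow, (h1.zpow_left i).eq, mul_inv_cancel_right,
          inv_mul_cancel])
    exact ⟨c, mem_centralizer_singleton_iff.2 (hc t (mem_zpowers t)).symm, hcN⟩
  haveI : Group.IsSolvable (centralizer ({t} : Set G)) :=
    isSolvable_of_nilpotent (hCN t fun e => by rw [e, orderOf_one] at ht; omega)
  haveI : Group.IsSolvable (G ⧸ N) := by
    refine Group.isSolvable_of_surjective (f := (QuotientGroup.mk' N).comp (centralizer ({t} : Set G)).subtype) ?_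
    intro y
    obtain ⟨g, rfl⟩ := QuotientGroup.mk'_surjective N y
    obtain ⟨c, hc, hcN⟩ := hcover g
    exact ⟨⟨c, hc⟩, (QuotientGroup.eq.2 hcN).symm⟩
  exact hns (Group.isSolvable_of_ker_le_range N.subtype (QuotientGroup.mk' N) (by simp))

/-- The properties of the largest normal `2`-subgroup of a non-solvable CN-group. -/
theorem exists_two_radical (hns : ¬ Group.IsSolvable G) (hCN : Cfsg.IsCNGroup G) :
    ∃ N : Subgroup G, ∃ _ : N.Normal, IsPGroup 2 N ∧ Cfsg.IsCNGroup (G ⧸ N) ∧ ¬ Group.IsSolvable (G ⧸ N) ∧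
      (∀ R : Subgroup (G ⧸ N), R.Normal → Group.IsSolvable R → R = ⊥) ∧
      (N ≠ ⊥ → ∀ g : G, Odd (orderOf g) → g ∉ N → ∀ n ∈ N, g * n * g⁻¹ = n → n = 1) := by
  haveI : Fact (Nat.Prime 2) := ⟨Nat.prime_two⟩
  obtain ⟨N, -, ⟨hN, hN2⟩, hmax⟩ : ∃ N : Subgroup G, ⊥ ≤ N ∧ (N.Normal ∧ IsPGroup 2 N) ∧
      ∀ N' : Subgroup G, N'.Normal ∧ IsPGroup 2 N' → N ≤ N' → N' ≤ N := by
    obtain ⟨N, h1, h2⟩ := Finite.exists_le_maximal (p := fun N : Subgroup G => N.Normal ∧ IsPGroup 2 N)
      (a := ⊥) ⟨inferInstance, IsPGroup.of_bot⟩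
    exact ⟨N, h1, h2.1, fun N' hN' hle => h2.2 hN' hle⟩
  haveI := hN
  haveI hNn := hN2.isNilpotent
  have hNs : Group.IsSolvable N := isSolvable_of_nilpotent hNn
  have hQCN := CfsgLib.CN.isCNGroup_quotient (Nat.card N) N rfl hCN hNs
  have hQns : ¬ Group.IsSolvable (G ⧸ N) := fun h => hns (by
    haveI := h
    haveI := hNs
    exact Group.isSolvable_of_ker_le_range N.subtype (QuotientGroup.mk' N) (by simp))
  have hrad : ∀ R : Subgroup (G ⧸ N), R.Normal → Group.IsSolvable R → R = ⊥ := by
    intro R hR hRs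
    by_contra hR1
    obtain ⟨M, hM, hM1, -, -, -, p, hp, -, hMp⟩ := CfsgLib.Solvable.exists_normal_elementary_le hR1 hRs
    haveI := Fact.mk hp
    haveI := hM
    by_cases hp2 : p = 2
    · subst hp2
      refine hM1 ?_
      have hle := hmax (M.comap (QuotientGroup.mk' N))
        ⟨inferInstance, hMp.comap_of_ker_isPGroup _ (by rw [QuotientGroup.ker_mk']; exact hN2)⟩
        (fun x hx => by
          show QuotientGroup.mk' N x ∈ M
          rw [show QuotientGroup.mk' N x = 1 from (QuotientGroup.eq_one_iff x).2 hx]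
          exact one_mem _)
      rw [eq_bot_iff]
      intro y hy
      obtain ⟨x, rfl⟩ := QuotientGroup.mk'_surjective N y
      exact mem_bot.2 ((QuotientGroup.eq_one_iff x).2 (hle hy))
    · exact hM1 (eq_bot_of_odd hQns hQCN hp2 hMp)
  refine ⟨N, hN, hN2, hQCN, hQns, hrad, fun hN1 g hg hgN n hn hfix => ?_⟩
  by_contra hn1
  obtain ⟨α, hα⟩ := IsPGroup.iff_card.1 hN2
  obtain ⟨z, hzN, hz1, -⟩ := CfsgLib.CN.exists_central hNn hN1
  set Z := (center N).map N.subtype
  haveI : Z.Normal := inferInstance
  have hgn : Commute g n := by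
    show g * n = n * g
    calc g * n = g * n * g⁻¹ * g := by group
      _ = _ := by rw [hfix]
  have hgZ : g ∈ centralizer (Z : Set G) := by
    refine mem_centralizer_iff.2 ?_
    rintro - ⟨c, hc, rfl⟩
    refine ((commute_of_cn hCN hn1 hgn ?_ ?_).symm).eq
    · exact congrArg Subtype.val (mem_center_iff.1 hc ⟨n, hn⟩).symm
    · refine Nat.Coprime.coprime_dvd_right (hα ▸ N.orderOf_dvd_natCard c.2) ?_
      exact (Nat.coprime_two_right.2 hg).pow_right α
  have hZ1 : Z ≠ ⊥ := by
    haveI := (nontrivial_iff_ne_bot N).2 hN1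
    haveI := hN2.center_nontrivial
    rw [ne_eq, Subgroup.map_eq_bot_iff_of_injective _ N.subtype_injective]
    exact (nontrivial_iff_ne_bot _).1 inferInstance
  obtain ⟨w, hw, hw1⟩ := (Subgroup.bot_or_exists_ne_one Z).resolve_left hZ1
  have hCs : Group.IsSolvable (centralizer (Z : Set G)) :=
    isSolvable_of_nilpotent (CfsgLib.CN.nilpotent_of_le (hCN w hw1)
      (centralizer_le (Set.singleton_subset_iff.2 hw)))
  haveI : ((centralizer (Z : Set G)).map (QuotientGroup.mk' N)).Normal :=
    Subgroup.Normal.map inferInstance _ (QuotientGroup.mk'_surjective N)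
  haveI := hCs
  have := hrad _ inferInstance (Group.isSolvable_of_surjective
    (f := (QuotientGroup.mk' N).subgroupMap (centralizer (Z : Set G))) ((QuotientGroup.mk' N).subgroupMap_surjective _))
  exact hgN ((QuotientGroup.eq_one_iff g).1 (mem_bot.1 (this ▸ ⟨g, hgZ, rfl⟩)))

/-- In a non-solvable CN-group without solvable normal subgroups there is a simple normal subgroup with
trivial centraliser. -/
theorem exists_simple_socle (hns : ¬ Group.IsSolvable G) (hCN : Cfsg.IsCNGroup G)
    (hrad : ∀ R : Subgroup G, R.Normal → Group.IsSolvable R → R = ⊥) :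
    ∃ S : Subgroup G, S.Normal ∧ IsSimpleGroup S ∧ ¬ Group.IsSolvable S ∧ Cfsg.IsCNGroup S := by
  haveI : Nontrivial G := by
    rcases subsingleton_or_nontrivial G with h | h
    · exact absurd (Group.isSolvable_of_comm fun a b => Subsingleton.elim _ _) hns
    · exact h
  obtain ⟨S, hS, hS1, -, hmin⟩ := CfsgLib.Solvable.exists_minimal_normal_le (N := (⊤ : Subgroup G)) top_ne_bot
  haveI := hS
  have hSns : ¬ Group.IsSolvable S := fun h => hS1 (hrad S hS h)
  refine ⟨S, hS, ?_, hSns, ?_⟩
  · haveI : Nontrivial S := (nontrivial_iff_ne_bot S).2 hS1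
    refine { eq_bot_or_eq_top_of_normal := fun T0 hT0 => ?_ }
    by_contra hcon
    push Not at hcon
    obtain ⟨T, hT, hT1, hTT0, hTmin⟩ := CfsgLib.Solvable.exists_minimal_normal_le (N := T0) hcon.1
    haveI := hT
    have hTtop : T ≠ ⊤ := fun e => hcon.2 (top_le_iff.1 (e ▸ hTT0))
    have hTmap1 : T.map S.subtype ≠ ⊥ := by
      rwa [ne_eq, Subgroup.map_eq_bot_iff_of_injective _ S.subtype_injective]
    obtain ⟨g, hg⟩ : ∃ g : G, T.map (MulAut.conjNormal (H := S) g).toMonoidHom ≠ T := by
      by_contra hh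
      push Not at hh
      have hn : (T.map S.subtype).Normal := ⟨fun x hx g => by
        obtain ⟨t, ht, rfl⟩ := hx
        refine ⟨MulAut.conjNormal (H := S) g t, hh g ▸ ⟨t, ht, rfl⟩, ?_⟩
        exact MulAut.conjNormal_apply g t⟩
      rcases hmin _ hn (map_subtype_le T) with e | e
      · exact hTmap1 e
      · exact hTtop (top_le_iff.1 fun y _ => by
          have : (y : G) ∈ T.map S.subtype := e.symm ▸ y.2
          obtain ⟨t, ht, hty⟩ := this
          rwa [← S.subtype_injective hty])
    set σ := (MulAut.conjNormal (H := S) g).toMonoidHom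
    have hσb : Function.Bijective σ := MulEquiv.bijective _
    set T' := T.map σ
    haveI : T'.Normal := Subgroup.Normal.map ‹_› σ hσb.2
    have hTT' : T ⊓ T' = ⊥ := (hTmin _ inferInstance inf_le_left).resolve_right fun e => by
      have hle : T ≤ T' := e ▸ inf_le_right
      refine hg (Subgroup.eq_of_le_of_card_ge hle ?_).symm
      rw [Nat.card_congr (T.equivMapOfInjective σ hσb.1).toEquiv]
    have hcomm : ∀ a ∈ T, ∀ b ∈ T', Commute a b :=
      fun a ha b hb => Subgroup.commute_of_normal_of_disjoint T T' inferInstance inferInstance (disjoint_iff.2 hTT') a b ha hb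
    -- `T` is solvable
    obtain ⟨b, hb, hb1⟩ := (Subgroup.bot_or_exists_ne_one T').resolve_left fun e =>
      hT1 ((Subgroup.map_eq_bot_iff_of_injective _ hσb.1).1 e)
    have hTs : Group.IsSolvable T := by
      have hle : T.map S.subtype ≤ centralizer ({(b : G)} : Set G) := by
        rintro - ⟨a, ha, rfl⟩
        exact mem_centralizer_singleton_iff.2 (congrArg Subtype.val (hcomm a ha b hb).eq)
      haveI := isSolvable_of_nilpotent (CfsgLib.CN.nilpotent_of_le (hCN _ fun e => hb1 (Subtype.ext e)) hle)
      exact Group.isSolvable_of_surjective (f := (T.equivMapOfInjective S.subtype S.subtype_injective).symm.toMonoidHom)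
        (MulEquiv.surjective _)
    haveI hn : ((CfsgLib.Comp.solvRad S).map S.subtype).Normal := inferInstance
    rcases hmin _ hn (map_subtype_le _) with e | e
    · rw [Subgroup.map_eq_bot_iff_of_injective _ S.subtype_injective] at e
      exact hT1 (le_bot_iff.1 (e ▸ CfsgLib.Comp.le_solvRad hT hTs))
    · refine hSns ?_
      haveI := CfsgLib.Comp.solvRad_isSolvable (G := S)
      rw [show (S : Subgroup G) = (CfsgLib.Comp.solvRad S).map S.subtype from e.symm]
      exact Group.isSolvable_of_surjective
        (f := ((CfsgLib.Comp.solvRad S).equivMapOfInjective S.subtype S.subtype_injective).toMonoidHom)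
        (MulEquiv.surjective _)
  · intro x hx
    set C := centralizer ({x} : Set S)
    have hle : C.map S.subtype ≤ centralizer ({(x : G)} : Set G) := by
      rintro - ⟨a, ha, rfl⟩
      exact mem_centralizer_singleton_iff.2 (congrArg Subtype.val (mem_centralizer_singleton_iff.1 ha))
    haveI := CfsgLib.CN.nilpotent_of_le (hCN (x : G) fun e => hx (Subtype.ext e)) hle
    exact Group.nilpotent_of_surjective (C.equivMapOfInjective S.subtype S.subtype_injective).symm.toMonoidHom
      (MulEquiv.surjective _)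

end CfsgLib.CNStruct
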